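import Cfsg.Agent.H708.O8.Defs
import Cfsg.Agent.H884.ElLin
import Cfsg.Agent.H920.CsData
import Cfsg.Agent.H921.SympDim

/-!
# S3938-OPLUS8, q = 5, task Q3 (helper108)

An element `t` of order 3 of `GL₈(5)` with `dim C_V(t) = 6` normalises no absolutely irreducible group `R` of symplectic
type. `tr t = 0`: the idempotent `(1 + t + t²)/3` has trace 6, and `tr t² = tr t⁵ = tr t`. So `∑_{x ∈ R} x t x⁻¹`, which
is a scalar of trace `|R| tr t = 0`, vanishes. Modulo scalars the elements of `R` are linearly independent: the part of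
`∑ x t x⁻¹ t⁻¹ = 0` in the scalars is `|C_R(t)|`, a power of 2.
-/

set_option autoImplicit false

namespace Cfsg.Agent.H108.O8

open Module Cfsg Cfsg.Geo Matrix
open Cfsg.Agent.H951 (fx cm)
open Cfsg.Agent.H884.El
open Cfsg.Agent.H708.O8 (I8)
open scoped MatrixGroups Matrix

section

variable {F : Type} [Field F] [Fintype F]

theorem five_eq_zero (hF : Nat.card F = 5) : (5 : F) = 0 := by
  have h := FiniteField.cast_card_eq_zero F
  rw [← Nat.card_eq_fintype_card, hF] at h
  exact_mod_cast h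

theorem two_ne (hF : Nat.card F = 5) : (2 : F) ≠ 0 := by
  intro h
  have h5 := five_eq_zero hF
  have h1 : (1 : F) = 0 := by linear_combination h5 - 2 * h
  exact one_ne_zero h1

theorem three_ne (hF : Nat.card F = 5) : (3 : F) ≠ 0 := by
  intro h
  have h5 := five_eq_zero hF
  have h1 : (1 : F) = 0 := by linear_combination 2 * h - h5
  exact one_ne_zero h1

theorem cube_eq_one (hF : Nat.card F = 5) {μ : F} (h : μ ^ 3 = 1) : μ = 1 := by
  have h0 : μ ≠ 0 := by
    rintro rfl
    norm_num at h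
  have h4 : μ ^ 4 = 1 := by
    have := FiniteField.pow_card_sub_one_eq_one μ h0
    rwa [← Nat.card_eq_fintype_card, hF] at this
  calc μ = μ * μ ^ 3 := by rw [h, mul_one]
    _ = μ ^ 4 := by ring
    _ = 1 := h4

/-- the trace of `t` -/
theorem trace_eq_zero (hF : Nat.card F = 5) {t : GL I8 F} (ho : orderOf t = 3)
    (hfx : finrank F (fx (lin t)) = 6) : Matrix.trace (t : Matrix I8 I8 F) = 0 := by
  have h5 := five_eq_zero hF
  have h3 := three_ne hF
  set M : Matrix I8 I8 F := (t : Matrix I8 I8 F) with hM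
  have hM3 : M ^ 3 = 1 := by
    rw [hM, ← Units.val_pow_eq_pow_val, ← ho, pow_orderOf_eq_one, Units.val_one]
  -- the idempotent
  have htr : Matrix.trace M + Matrix.trace (M ^ 2) = 0 := by
    let e : Module.End F (I8 → F) := (3 : F)⁻¹ • (1 + lin t + lin t * lin t)
    have hl3 : lin t * lin t * lin t = 1 := by
      have h6 : Matrix.toLin' (M ^ 3) = lin t * lin t * lin t := by
        rw [pow_succ, pow_two, Matrix.toLin'_mul, Matrix.toLin'_mul]
        rfl
      rw [← h6, hM3, Matrix.toLin'_one]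
      rfl
    have hproj : LinearMap.IsProj (fx (lin t)) e := by
      refine ⟨fun v => ?_, fun v hv => ?_⟩
      · rw [Cfsg.Agent.H951.mem_fx]
        have h7 : lin t * e = e := by
          show lin t * ((3 : F)⁻¹ • (1 + lin t + lin t * lin t)) = (3 : F)⁻¹ • (1 + lin t + lin t * lin t)
          rw [mul_smul_comm, mul_add, mul_add, mul_one, ← mul_assoc, hl3]
          congr 1
          abel
        exact congrArg (fun f : Module.End F (I8 → F) => f v) h7
      · rw [Cfsg.Agent.H951.mem_fx] at hv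
        show (3 : F)⁻¹ • (v + lin t v + lin t (lin t v)) = v
        rw [hv, hv]
        have h8 : v + v + v = (3 : F) • v := by
          rw [show (3 : F) = 1 + 1 + 1 by norm_num, add_smul, add_smul, one_smul]
        rw [h8, smul_smul, inv_mul_cancel₀ h3, one_smul]
    have htrace := hproj.trace
    rw [hfx] at htrace
    have h9 : LinearMap.trace F (I8 → F) e = (3 : F)⁻¹ * (8 + Matrix.trace M + Matrix.trace (M ^ 2)) := by
      show LinearMap.trace F (I8 → F) ((3 : F)⁻¹ • (1 + lin t + lin t * lin t)) = _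
      have h10 : lin t * lin t = Matrix.toLin' (M ^ 2) := by
        rw [pow_two, Matrix.toLin'_mul]
        rfl
      have h17 : (finrank F (I8 → F) : F) = 8 := by
        rw [Module.finrank_fintype_fun_eq_card]
        norm_num [Fintype.card_sum]
      rw [map_smul, map_add, map_add, h10, Matrix.trace_toLin'_eq, LinearMap.trace_one, Matrix.trace_toLin'_eq,
        smul_eq_mul, h17]
    rw [h9] at htrace
    have h11 : (8 : F) + Matrix.trace M + Matrix.trace (M ^ 2) = 18 := by
      have h12 : 3 * ((3 : F)⁻¹ * (8 + Matrix.trace M + Matrix.trace (M ^ 2))) = 3 * ((6 : ℕ) : F) :=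
        congrArg (fun z => 3 * z) htrace
      rw [← mul_assoc, mul_inv_cancel₀ h3, one_mul] at h12
      rw [h12]
      norm_num
    linear_combination h11 + 2 * h5
  -- Frobenius
  have hfro : Matrix.trace (M ^ 2) = Matrix.trace M := by
    have h13 := FiniteField.trace_pow_card M
    have hc : Fintype.card F = 5 := by rw [← Nat.card_eq_fintype_card, hF]
    rw [hc] at h13
    have h14 : M ^ 5 = M ^ 2 := by
      rw [show (5 : ℕ) = 3 + 2 from rfl, pow_add, hM3, one_mul]
    rw [h14] at h13
    rw [h13]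
    have h15 := FiniteField.pow_card (Matrix.trace M)
    rwa [hc] at h15
  rw [hfro] at htr
  have h16 : 2 * Matrix.trace M = 0 := by linear_combination htr
  exact (mul_eq_zero.1 h16).resolve_left (two_ne hF)

theorem scalar_pow_four (hF : Nat.card F = 5) {z : GL I8 F} (hz : z ∈ scalars I8 F) : z ^ 4 = 1 := by
  obtain ⟨c, hc⟩ := (mem_scalars_iff z).1 hz
  have h4 : (c : F) ^ 4 = 1 := by
    have := FiniteField.pow_card_sub_one_eq_one (c : F) c.ne_zero
    rwa [← Nat.card_eq_fintype_card, hF] at this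
  apply Units.ext
  rw [Units.val_pow_eq_pow_val, hc, smul_pow, one_pow, h4, one_smul, Units.val_one]

theorem s_eq_two (hF : Nat.card F = 5) {s : ℕ} {R : Subgroup (GL I8 F)}
    (habs : ActsAbsolutelyIrreducibly (matrixSet R)) (hR : IsSymplecticTypeGroup s R) {t : GL I8 F}
    (ho : orderOf t = 3) : s = 2 := by
  have hfin : Finite (GL I8 F) := inferInstance
  have hsF : Fact s.Prime := ⟨hR.prime⟩
  have hnt : Nontrivial R := by
    by_contra hcon
    rw [not_nontrivial_iff_subsingleton] at hcon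
    have h1 : t ∈ scalars I8 F := by
      apply H920.mem_scalars_of_comm' habs
      intro x hx
      have h2 : (⟨x, hx⟩ : R) = 1 := Subsingleton.elim _ _
      have h3 : x = 1 := congrArg Subtype.val h2
      rw [h3, mul_one, one_mul]
    have h2 := orderOf_dvd_of_pow_eq_one (scalar_pow_four hF h1)
    rw [ho] at h2
    norm_num at h2
  have hZ : Nontrivial (Subgroup.center R) := hR.pGroup.center_nontrivial
  obtain ⟨z, hz⟩ := exists_ne (1 : Subgroup.center R)
  have h1 := scalar_pow_four hF (H920.mem_scalars_of_mem_center habs z.2)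
  have h2 : (z : R) ^ 4 = 1 := Subtype.ext h1
  obtain ⟨k, hk⟩ := IsPGroup.iff_orderOf.1 hR.pGroup (z : R)
  have h3 := orderOf_dvd_of_pow_eq_one h2
  rw [hk] at h3
  have hk0 : k ≠ 0 := by
    rintro rfl
    rw [pow_zero, orderOf_eq_one_iff] at hk
    exact hz (Subtype.ext hk)
  have h4 : s ∣ 2 ^ 2 := (dvd_pow_self s hk0).trans h3
  exact (Nat.prime_dvd_prime_iff_eq hR.prime Nat.prime_two).1 (hR.prime.dvd_of_dvd_pow h4)

/-- **(Q3)** -/
theorem no_symp5 (hF : Nat.card F = 5) {s m : ℕ} {R : Subgroup (GL I8 F)}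
    (habs : ActsAbsolutelyIrreducibly (matrixSet R)) (hR : IsSymplecticTypeGroup s R) {t : GL I8 F}
    (ht : t ∈ subgroupNormalizer R) (ho : orderOf t = 3) (hd : finrank F (cm (lin t)) = 2)
    (hfx : finrank F (fx (lin t)) = 6) : False := by
  classical
  have hfin : Finite (GL I8 F) := inferInstance
  have hs2 := s_eq_two hF habs hR ho
  subst hs2
  have : Fact (Nat.Prime 2) := ⟨Nat.prime_two⟩
  have : Fintype R := Fintype.ofFinite R
  have h5 := five_eq_zero hF
  have hcomm : ∀ x ∈ R, ∀ y ∈ R, x * y * x⁻¹ * y⁻¹ ∈ scalars I8 F := fun x hx y hy =>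
    H920.mem_scalars_of_mem_center habs
      (H921.commutator_mem_center hR (fun h => absurd h (by decide)) ⟨x, hx⟩ ⟨y, hy⟩)
  have htr := trace_eq_zero hF ho hfx
  have hconjtr : ∀ g h : GL I8 F, Matrix.trace ((g * h * g⁻¹ : GL I8 F) : Matrix I8 I8 F) =
      Matrix.trace (h : Matrix I8 I8 F) := by
    intro g h
    rw [Units.val_mul, Matrix.trace_mul_comm, ← Units.val_mul]
    congr 2
    group
  -- the elements of `R` outside the scalars have trace zero
  have hzero : ∀ r ∈ R, r ∉ scalars I8 F → Matrix.trace (r : Matrix I8 I8 F) = 0 := by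
    intro r hr hrs
    obtain ⟨y, hy, hyr⟩ : ∃ y ∈ R, r * y ≠ y * r := by
      by_contra hcon
      push Not at hcon
      exact hrs (H920.mem_scalars_of_comm' habs hcon)
    obtain ⟨c, hc⟩ := (mem_scalars_iff _).1 (hcomm y hy r hr)
    have h1 : y * r * y⁻¹ = (y * r * y⁻¹ * r⁻¹) * r := by group
    have h2 := hconjtr y r
    rw [h1, Units.val_mul, hc, Matrix.smul_mul, Matrix.one_mul, Matrix.trace_smul, smul_eq_mul] at h2
    have hc1 : (c : F) ≠ 1 := by
      intro h3
      rw [h3, one_smul] at hc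
      have h4 : y * r * y⁻¹ * r⁻¹ = 1 := Units.ext hc
      apply hyr
      rw [mul_inv_eq_one, mul_inv_eq_iff_eq_mul] at h4
      exact h4.symm
    have h3 : ((c : F) - 1) * Matrix.trace (r : Matrix I8 I8 F) = 0 := by rw [sub_mul, h2, one_mul, sub_self]
    exact (mul_eq_zero.1 h3).resolve_left (sub_ne_zero.2 hc1)
  -- the sum of the conjugates of `t`
  set T : Matrix I8 I8 F := ∑ x : R, (((x : GL I8 F) * t * (x : GL I8 F)⁻¹ : GL I8 F) : Matrix I8 I8 F) with hT
  have hTc : ∀ y ∈ R, T * (y : Matrix I8 I8 F) = (y : Matrix I8 I8 F) * T := by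
    intro y hy
    have h1 : (y : Matrix I8 I8 F) * T = ∑ x : R, (((y * x : GL I8 F) * t * (y * x : GL I8 F)⁻¹ * y : GL I8 F) :
        Matrix I8 I8 F) := by
      rw [hT, Matrix.mul_sum]
      apply Finset.sum_congr rfl
      intro x _
      rw [← Units.val_mul]
      congr 1
      group
    rw [h1, hT, Matrix.sum_mul]
    refine (Fintype.sum_equiv (Equiv.mulLeft (⟨y, hy⟩ : R)) _ _ ?_).symm
    intro x
    rw [← Units.val_mul]
    rfl
  have hT0 : T = 0 := by
    obtain ⟨c, hc⟩ := habs.2 T (by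
      rintro _ ⟨x, hx, rfl⟩
      exact hTc x hx)
    have h1 : Matrix.trace T = 0 := by
      rw [hT, Matrix.trace_sum]
      apply Finset.sum_eq_zero
      intro x _
      rw [hconjtr, htr]
    rw [hc, Matrix.trace_smul, Matrix.trace_one, smul_eq_mul] at h1
    have h2 : (Fintype.card I8 : F) = 3 := by
      have : Fintype.card I8 = 8 := by simp
      rw [this]
      push_cast
      linear_combination h5
    rw [h2] at h1
    rw [hc, (mul_eq_zero.1 h1).resolve_right (three_ne hF), zero_smul]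
  -- the commutators
  have hmR : ∀ x : R, (x : GL I8 F) * t * (x : GL I8 F)⁻¹ * t⁻¹ ∈ R := by
    intro x
    have h1 : t * (x : GL I8 F)⁻¹ * t⁻¹ ∈ R :=
      (Subgroup.mem_normalizer_iff.1 ht _).1 (R.inv_mem x.2)
    have h2 := R.mul_mem x.2 h1
    have e : (x : GL I8 F) * (t * (x : GL I8 F)⁻¹ * t⁻¹) = (x : GL I8 F) * t * (x : GL I8 F)⁻¹ * t⁻¹ := by group
    rwa [e] at h2
  have hone : ∀ x : R, (x : GL I8 F) * t * (x : GL I8 F)⁻¹ * t⁻¹ ∈ scalars I8 F →
      (x : GL I8 F) * t * (x : GL I8 F)⁻¹ * t⁻¹ = 1 := by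
    intro x hx
    set z := (x : GL I8 F) * t * (x : GL I8 F)⁻¹ * t⁻¹ with hz
    have h1 : (x : GL I8 F) * t * (x : GL I8 F)⁻¹ = z * t := by rw [hz]; group
    have ht3 : t ^ 3 = 1 := by rw [← ho, pow_orderOf_eq_one]
    have h2 : (z * t) ^ 3 = 1 := by
      rw [← h1, conj_pow, ht3]
      group
    have h3 : Commute z t := H920.scalars_comm hx t
    rw [h3.mul_pow, ht3, mul_one] at h2
    have h4 := scalar_pow_four hF hx
    calc z = z ^ 4 * (z ^ 3)⁻¹ := by group
      _ = 1 := by rw [h4, h2, inv_one, mul_one]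
  let C : Subgroup R := (Subgroup.centralizer ({t} : Set (GL I8 F))).subgroupOf R
  have hmemC : ∀ x : R, x ∈ C ↔ (x : GL I8 F) * t * (x : GL I8 F)⁻¹ * t⁻¹ = 1 := by
    intro x
    rw [Subgroup.mem_subgroupOf, Subgroup.mem_centralizer_singleton_iff, mul_inv_eq_one, mul_inv_eq_iff_eq_mul]
  have hsum : ∑ x : R, Matrix.trace (((x : GL I8 F) * t * (x : GL I8 F)⁻¹ * t⁻¹ : GL I8 F) : Matrix I8 I8 F) = 0 := by
    rw [← Matrix.trace_sum]
    have h1 : ∑ x : R, (((x : GL I8 F) * t * (x : GL I8 F)⁻¹ * t⁻¹ : GL I8 F) : Matrix I8 I8 F) =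
        T * ((t⁻¹ : GL I8 F) : Matrix I8 I8 F) := by
      rw [hT, Matrix.sum_mul]
      exact Finset.sum_congr rfl fun x _ => Units.val_mul _ _
    rw [h1, hT0, Matrix.zero_mul, Matrix.trace_zero]
  have hsum' : ∑ x : R, Matrix.trace (((x : GL I8 F) * t * (x : GL I8 F)⁻¹ * t⁻¹ : GL I8 F) : Matrix I8 I8 F) =
      ∑ x : R, if x ∈ C then (3 : F) else 0 := by
    apply Finset.sum_congr rfl
    intro x _
    by_cases hx : x ∈ C
    · rw [if_pos hx, (hmemC x).1 hx, Units.val_one, Matrix.trace_one]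
      have : Fintype.card I8 = 8 := by simp
      rw [this]
      push_cast
      linear_combination h5
    · rw [if_neg hx]
      exact hzero _ (hmR x) fun h => hx ((hmemC x).2 (hone x h))
  rw [hsum', Finset.sum_ite, Finset.sum_const_zero, add_zero, Finset.sum_const, nsmul_eq_mul] at hsum
  have hcard : (Finset.univ.filter fun x : R => x ∈ C).card = Nat.card C := by
    rw [Nat.card_eq_fintype_card, Fintype.card_subtype]
  rw [hcard] at hsum
  obtain ⟨k, hk⟩ := (hR.pGroup.to_subgroup C).exists_card_eq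
  rw [hk] at hsum
  push_cast at hsum
  rcases mul_eq_zero.1 hsum with h | h
  · exact two_ne hF (pow_eq_zero_iff (n := k) (by rintro rfl; simp at h) |>.1 h)
  · exact three_ne hF h

end

end Cfsg.Agent.H108.O8
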